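import Cfsg.Agent.Screen.CosetEnum.HeOrd.HeT.FCheck3

/-!
# Checking the table
-/

set_option autoImplicit false
set_option maxRecDepth 20000

namespace Cfsg.Agent.Screen.CosetEnum.HeOrd.HeT

open Cfsg.Agent.Screen.CosetEnum

set_option Elab.async false

theorem fcheck120 : blocks tbl.toCert 40 4800 = true := by decide +kernel

theorem fcheck121 : blocks tbl.toCert 40 4840 = true := by decide +kernel

theorem fcheck122 : blocks tbl.toCert 40 4880 = true := by decide +kernel

theorem fcheck123 : blocks tbl.toCert 40 4920 = true := by decide +kernel

theorem fcheck124 : blocks tbl.toCert 40 4960 = true := by decide +kernel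

theorem fcheck125 : blocks tbl.toCert 40 5000 = true := by decide +kernel

theorem fcheck126 : blocks tbl.toCert 40 5040 = true := by decide +kernel

theorem fcheck127 : blocks tbl.toCert 40 5080 = true := by decide +kernel

theorem fcheck128 : blocks tbl.toCert 40 5120 = true := by decide +kernel

theorem fcheck129 : blocks tbl.toCert 40 5160 = true := by decide +kernel

theorem fcheck130 : blocks tbl.toCert 40 5200 = true := by decide +kernel

theorem fcheck131 : blocks tbl.toCert 40 5240 = true := by decide +kernel

theorem fcheck132 : blocks tbl.toCert 40 5280 = true := by decide +kernel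

theorem fcheck133 : blocks tbl.toCert 40 5320 = true := by decide +kernel

theorem fcheck134 : blocks tbl.toCert 40 5360 = true := by decide +kernel

theorem fcheck135 : blocks tbl.toCert 40 5400 = true := by decide +kernel

theorem fcheck136 : blocks tbl.toCert 40 5440 = true := by decide +kernel

theorem fcheck137 : blocks tbl.toCert 40 5480 = true := by decide +kernel

theorem fcheck138 : blocks tbl.toCert 40 5520 = true := by decide +kernel

theorem fcheck139 : blocks tbl.toCert 40 5560 = true := by decide +kernel

theorem fcheck140 : blocks tbl.toCert 40 5600 = true := by decide +kernel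

theorem fcheck141 : blocks tbl.toCert 40 5640 = true := by decide +kernel

theorem fcheck142 : blocks tbl.toCert 40 5680 = true := by decide +kernel

theorem fcheck143 : blocks tbl.toCert 40 5720 = true := by decide +kernel

end Cfsg.Agent.Screen.CosetEnum.HeOrd.HeT
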