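import Cfsg.Agent.Screen.CosetEnum.HeOrd.HeT.Data
import Cfsg.Agent.Screen.CosetEnum.Linked

/-!
# Checking the table
-/

set_option autoImplicit false
set_option maxRecDepth 20000

namespace Cfsg.Agent.Screen.CosetEnum.HeOrd.HeT

open Cfsg.Agent.Screen.CosetEnum

set_option Elab.async false

theorem rcheck24 : tbl.linkRows 600 14400 = true := by decide +kernel

theorem rcheck25 : tbl.linkRows 600 15000 = true := by decide +kernel

theorem rcheck26 : tbl.linkRows 600 15600 = true := by decide +kernel

theorem rcheck27 : tbl.linkRows 600 16200 = true := by decide +kernel

theorem rcheck28 : tbl.linkRows 600 16800 = true := by decide +kernel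

theorem rcheck29 : tbl.linkRows 600 17400 = true := by decide +kernel

theorem rcheck30 : tbl.linkRows 600 18000 = true := by decide +kernel

theorem rcheck31 : tbl.linkRows 600 18600 = true := by decide +kernel

theorem rcheck32 : tbl.linkRows 600 19200 = true := by decide +kernel

theorem rcheck33 : tbl.linkRows 600 19800 = true := by decide +kernel

theorem rcheck34 : tbl.linkRows 600 20400 = true := by decide +kernel

theorem rcheck35 : tbl.linkRows 600 21000 = true := by decide +kernel

theorem rcheck36 : tbl.linkRows 600 21600 = true := by decide +kernel

theorem rcheck37 : tbl.linkRows 600 22200 = true := by decide +kernel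

theorem rcheck38 : tbl.linkRows 600 22800 = true := by decide +kernel

theorem rcheck39 : tbl.linkRows 600 23400 = true := by decide +kernel

theorem rcheck40 : tbl.linkRows 600 24000 = true := by decide +kernel

theorem rcheck41 : tbl.linkRows 600 24600 = true := by decide +kernel

theorem rcheck42 : tbl.linkRows 600 25200 = true := by decide +kernel

theorem rcheck43 : tbl.linkRows 600 25800 = true := by decide +kernel

theorem rcheck44 : tbl.linkRows 600 26400 = true := by decide +kernel

theorem rcheck45 : tbl.linkRows 600 27000 = true := by decide +kernel

theorem rcheck46 : tbl.linkRows 600 27600 = true := by decide +kernel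

theorem rcheck47 : tbl.linkRows 600 28200 = true := by decide +kernel

end Cfsg.Agent.Screen.CosetEnum.HeOrd.HeT
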