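import Cfsg.Agent.Screen.CosetEnum.HeOrd.HeT.RCheck0
import Cfsg.Agent.Screen.CosetEnum.Linked

/-!
# Checking the table
-/

set_option autoImplicit false
set_option maxRecDepth 20000

namespace Cfsg.Agent.Screen.CosetEnum.HeOrd.HeT

open Cfsg.Agent.Screen.CosetEnum

set_option Elab.async false

theorem rcheck48 : tbl.linkRows 600 28800 = true := by decide +kernel

theorem rcheck49 : tbl.linkRows 600 29400 = true := by decide +kernel

theorem rcheck50 : tbl.linkRows 600 30000 = true := by decide +kernel

theorem rcheck51 : tbl.linkRows 600 30600 = true := by decide +kernel

theorem rcheck52 : tbl.linkRows 600 31200 = true := by decide +kernel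

theorem rcheck53 : tbl.linkRows 600 31800 = true := by decide +kernel

theorem rcheck54 : tbl.linkRows 600 32400 = true := by decide +kernel

theorem rcheck55 : tbl.linkRows 600 33000 = true := by decide +kernel

theorem rcheck56 : tbl.linkRows 600 33600 = true := by decide +kernel

theorem rcheck57 : tbl.linkRows 600 34200 = true := by decide +kernel

theorem rcheck58 : tbl.linkRows 600 34800 = true := by decide +kernel

theorem rcheck59 : tbl.linkRows 600 35400 = true := by decide +kernel

theorem rcheck60 : tbl.linkRows 600 36000 = true := by decide +kernel

theorem rcheck61 : tbl.linkRows 600 36600 = true := by decide +kernel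

theorem rcheck62 : tbl.linkRows 600 37200 = true := by decide +kernel

theorem rcheck63 : tbl.linkRows 600 37800 = true := by decide +kernel

theorem rcheck64 : tbl.linkRows 600 38400 = true := by decide +kernel

theorem rcheck65 : tbl.linkRows 600 39000 = true := by decide +kernel

theorem rcheck66 : tbl.linkRows 600 39600 = true := by decide +kernel

theorem rcheck67 : tbl.linkRows 600 40200 = true := by decide +kernel

theorem rcheck68 : tbl.linkRows 600 40800 = true := by decide +kernel

theorem rcheck69 : tbl.linkRows 600 41400 = true := by decide +kernel

theorem rcheck70 : tbl.linkRows 600 42000 = true := by decide +kernel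

theorem rcheck71 : tbl.linkRows 600 42600 = true := by decide +kernel

end Cfsg.Agent.Screen.CosetEnum.HeOrd.HeT
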