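import Cfsg.Agent.Screen.CosetEnum.HeOrd.HeT.RCheck1
import Cfsg.Agent.Screen.CosetEnum.Linked

/-!
# Checking the table
-/

set_option autoImplicit false
set_option maxRecDepth 20000

namespace Cfsg.Agent.Screen.CosetEnum.HeOrd.HeT

open Cfsg.Agent.Screen.CosetEnum

set_option Elab.async false

theorem rcheck72 : tbl.linkRows 600 43200 = true := by decide +kernel

theorem rcheck73 : tbl.linkRows 600 43800 = true := by decide +kernel

theorem rcheck74 : tbl.linkRows 600 44400 = true := by decide +kernel

theorem rcheck75 : tbl.linkRows 600 45000 = true := by decide +kernel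

theorem rcheck76 : tbl.linkRows 600 45600 = true := by decide +kernel

theorem rcheck77 : tbl.linkRows 600 46200 = true := by decide +kernel

theorem rcheck78 : tbl.linkRows 600 46800 = true := by decide +kernel

theorem rcheck79 : tbl.linkRows 600 47400 = true := by decide +kernel

theorem rcheck80 : tbl.linkRows 600 48000 = true := by decide +kernel

theorem rcheck81 : tbl.linkRows 600 48600 = true := by decide +kernel

theorem rcheck82 : tbl.linkRows 600 49200 = true := by decide +kernel

theorem rcheck83 : tbl.linkRows 180 49800 = true := by decide +kernel

end Cfsg.Agent.Screen.CosetEnum.HeOrd.HeT
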