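import Cfsg.Agent.Screen.CosetEnum.HeOrd.HeT.FCheck6

/-!
# Checking the table
-/

set_option autoImplicit false
set_option maxRecDepth 20000

namespace Cfsg.Agent.Screen.CosetEnum.HeOrd.HeT

open Cfsg.Agent.Screen.CosetEnum

set_option Elab.async false

theorem fcheck192 : blocks tbl.toCert 40 7680 = true := by decide +kernel

theorem fcheck193 : blocks tbl.toCert 40 7720 = true := by decide +kernel

theorem fcheck194 : blocks tbl.toCert 40 7760 = true := by decide +kernel

theorem fcheck195 : blocks tbl.toCert 40 7800 = true := by decide +kernel

theorem fcheck196 : blocks tbl.toCert 40 7840 = true := by decide +kernel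

theorem fcheck197 : blocks tbl.toCert 40 7880 = true := by decide +kernel

theorem fcheck198 : blocks tbl.toCert 27 7920 = true := by decide +kernel

end Cfsg.Agent.Screen.CosetEnum.HeOrd.HeT
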